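import Cfsg.Agent.H137.Fam
import Cfsg.Agent.H989.DG.Semi
import Cfsg.Agent.H989.OutOrth.Basic
import Cfsg.Agent.H891.DG.Nielsen
import Cfsg.Agent.LieRecognition.FieldSemilinear

/-!
# TEAM GEN, S4180: from semisimilitudes to `Cos2` (helper48)

* `cos2_congr` : transport of `Cos2`;
* `HO M` : the isometries in a group `M` of semisimilitudes, `nm_HO`;
* `cos2_of_gam` : `Cos2 (P Q)` from pairs of semisimilitudes (first member a similitude).
* `pair1`, `tor` : the torus of a hyperbolic plane; `refl_mul_refl_eq`.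
-/

set_option autoImplicit false

namespace Cfsg.Agent.H48.DG

open QuadraticMap Cfsg.Agent.LieClassical.OrthCore Cfsg.Agent.LieClassical.OrthTrans
  Cfsg.Agent.LieClassical.OrthSimple Cfsg.Agent.ClassicalGeometry.OrthAutBasic
  Cfsg.Agent.ClassicalGeometry.OrthSemi Cfsg.Agent.ClassicalGeometry.OrthAut1
  Cfsg.Agent.H887.SiegelMethod Cfsg.Agent.H137 Cfsg.Agent.H989.OutOrth.Basic Cfsg.Agent.H989.DG
  Cfsg.Agent.H891.DG Cfsg.Agent.H891.Gen

/-- transport of `Cos2` -/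
theorem cos2_congr {T S : Type*} [Group T] [Group S] (e : T ≃* S) (h : Cos2 S) : Cos2 T := by
  intro x y
  set f : MulAut T ≃* MulAut S := MulAut.congr e with hf
  obtain ⟨s, ⟨s0, hs⟩, t, ⟨t0, ht⟩, hle⟩ := h (f x) (f y)
  have hconj : ∀ g : T, f (MulAut.conj g) = MulAut.conj (e g) := by
    intro g
    ext u
    simp [hf, MulAut.congr, MulAut.conj_apply]
  have hconj' : ∀ g : S, f.symm (MulAut.conj g) = MulAut.conj (e.symm g) := by
    intro g
    rw [MulEquiv.symm_apply_eq, hconj, MulEquiv.apply_symm_apply]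
  refine ⟨f.symm s, ⟨e.symm s0, by rw [← hs, hconj']⟩, f.symm t, ⟨e.symm t0, by rw [← ht, hconj']⟩, ?_⟩
  rintro _ ⟨g, rfl⟩
  have h1 : MulAut.conj (e g) ∈ Subgroup.closure ({f x * s, f y * t} : Set (MulAut S)) := hle ⟨e g, rfl⟩
  have h2 : Subgroup.closure ({x * f.symm s, y * f.symm t} : Set (MulAut T)) =
      (Subgroup.closure ({f x * s, f y * t} : Set (MulAut S))).map f.symm.toMonoidHom := by
    rw [MonoidHom.map_closure, Set.image_pair]
    congr 1
    simp
  rw [h2]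
  refine ⟨MulAut.conj (e g), h1, ?_⟩
  change f.symm (MulAut.conj (e g)) = MulAut.conj g
  rw [hconj', MulEquiv.symm_apply_apply]

variable {F V : Type*} [Field F] [AddCommGroup V] [Module F V] {Q : QuadraticForm F V}

/-! ### the isometries in a group of semisimilitudes -/

/-- The isometries in `M`. -/
def HO (M : Subgroup (Gam Q)) : Subgroup (V ≃ₗ[F] V) := (M.comap (ofO Q)).map (O Q).subtype

theorem mem_HO {M : Subgroup (Gam Q)} {g : V ≃ₗ[F] V} : g ∈ HO M ↔ ∃ hg : g ∈ O Q, ofO Q ⟨g, hg⟩ ∈ M := by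
  constructor
  · rintro ⟨g', hg', rfl⟩
    exact ⟨g'.2, hg'⟩
  · rintro ⟨hg, h⟩
    exact ⟨⟨g, hg⟩, h, rfl⟩

theorem conjLin_mem_O (w : Gam Q) {g : V ≃ₗ[F] V} (hg : g ∈ O Q) : conjLin w g ∈ O Q := by
  obtain ⟨σ, c, hw⟩ := w.2
  intro v
  obtain ⟨v, rfl⟩ := w.1.surjective v
  rw [conjLin_apply', hw.form, hw.form]
  have h1 : Q (g v) = Q v := hg v
  rw [h1]

theorem ofO_conjLin (w : Gam Q) {g : V ≃ₗ[F] V} (hg : g ∈ O Q) :
    ofO Q ⟨conjLin w g, conjLin_mem_O w hg⟩ = w * ofO Q ⟨g, hg⟩ * w⁻¹ := by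
  apply Subtype.ext
  ext v
  rfl

theorem nm_HO {M : Subgroup (Gam Q)} {w : Gam Q} (hw : w ∈ M) : Nm (HO M) w := by
  intro g hg
  obtain ⟨hg0, hgM⟩ := mem_HO.1 hg
  refine mem_HO.2 ⟨conjLin_mem_O w hg0, ?_⟩
  rw [ofO_conjLin w hg0]
  exact M.mul_mem (M.mul_mem hw hgM) (M.inv_mem hw)

theorem out_eq_iff {M N : Gam Q} : out Q M = out Q N ↔ (Psi Q M)⁻¹ * Psi Q N ∈ Cfsg.Inn (P Q) := by
  show (QuotientGroup.mk' (Cfsg.Inn (P Q))) (Psi Q M) = (QuotientGroup.mk' (Cfsg.Inn (P Q))) (Psi Q N) ↔ _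
  rw [QuotientGroup.mk'_apply, QuotientGroup.mk'_apply, QuotientGroup.eq]

/-- from the closure in `Gam Q` to `Lift` -/
theorem lift_of_HO {M N X Y : Gam Q} (hx : out Q M = out Q X) (hy : out Q N = out Q Y)
    (h : E Q ≤ HO (Subgroup.closure {X, Y})) :
    Lift (MulAut.conj : P Q →* MulAut (P Q)).range (Psi Q M) (Psi Q N) := by
  refine Cfsg.Agent.H891.DG.Nielsen.Lift.congr (x := Psi Q X) (y := Psi Q Y) (out_eq_iff.1 hx) (out_eq_iff.1 hy)
    ⟨1, Subgroup.one_mem _, 1, Subgroup.one_mem _, ?_⟩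
  rw [mul_one, mul_one, ← Set.image_pair, ← MonoidHom.map_closure]
  rintro _ ⟨p, rfl⟩
  obtain ⟨g, rfl⟩ := QuotientGroup.mk_surjective p
  obtain ⟨hg, hgM⟩ := mem_HO.1 (h g.2)
  exact ⟨_, hgM, Psi_ofO g⟩

/-- The field automorphism of an automorphism. -/
theorem exists_sgA (hG : Good Q) (hs : Function.Surjective (Psi Q)) :
    ∃ φ : MulAut (P Q) →* RingAut F, ∀ M, φ (Psi Q M) = sg hG M := by
  have hk : (Psi Q).ker ≤ (sg hG).ker := by
    rw [ker_Psi hG]
    rintro _ ⟨a, rfl⟩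
    exact sg_scal hG a
  exact ⟨(Psi Q).liftOfSurjective hs ⟨sg hG, hk⟩, fun M => MonoidHom.liftOfRightInverse_comp_apply _ _ _ _ _⟩

/-- **`Cos2 (P Q)` from pairs of semisimilitudes.** -/
theorem cos2_of_gam [Finite F] [Finite V] (hG : Good Q) (hs : Function.Surjective (Psi Q))
    (h : ∀ M N : Gam Q, sg hG M = 1 → ∃ X Y : Gam Q, out Q M = out Q X ∧ out Q N = out Q Y ∧
      E Q ≤ HO (Subgroup.closure {X, Y})) : Cos2 (P Q) := by
  obtain ⟨φ, hφ⟩ := exists_sgA hG hs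
  have : Finite (RingAut F) := Finite.of_injective (fun f : RingAut F => (f : F → F)) DFunLike.coe_injective
  have : IsCyclic (RingAut F) := Cfsg.Agent.LieRecognition.FieldSemilinear.isCyclic_ringAut F
  have hfinE : Finite (V ≃ₗ[F] V) := Finite.of_injective (fun g => g.toEquiv)
    fun g h e => LinearEquiv.toEquiv_injective e
  have : Finite (P Q) := inferInstance
  refine Cfsg.Agent.H891.DG.Nielsen.cos2_of_ker φ fun x y hx => ?_
  obtain ⟨M, rfl⟩ := hs x
  obtain ⟨N, rfl⟩ := hs y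
  rw [hφ] at hx
  obtain ⟨X, Y, h1, h2, h3⟩ := h M N hx
  exact lift_of_HO h1 h2 h3

/-! ### the torus of a hyperbolic plane -/

/-- A hyperbolic plane as a pair over `F`. -/
noncomputable def pair1 {e f : V} (h : Hyp Q e f) : SPair Q F where
  e := LinearMap.toSpanSingleton F V e
  f := LinearMap.toSpanSingleton F V f
  pe := QuadraticMap.polarBilin Q f
  pf := QuadraticMap.polarBilin Q e
  Qe x := by
    rw [LinearMap.toSpanSingleton_apply, QuadraticMap.map_smul, h.left, smul_zero]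
  Qf x := by
    rw [LinearMap.toSpanSingleton_apply, QuadraticMap.map_smul, h.right, smul_zero]
  pf_spec x v := by
    rw [LinearMap.toSpanSingleton_apply, polar_smul_left, polarBilin_apply_apply, Algebra.trace_self_apply]
    rfl
  pe_spec x v := by
    rw [LinearMap.toSpanSingleton_apply, polar_smul_left, polarBilin_apply_apply, Algebra.trace_self_apply]
    rfl
  pe_e x := by
    rw [LinearMap.toSpanSingleton_apply, polarBilin_apply_apply, polar_smul_right, h.pair', smul_eq_mul, mul_one]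
  pe_f x := by
    rw [LinearMap.toSpanSingleton_apply, polarBilin_apply_apply, polar_smul_right, h.polar_right, smul_zero]
  pf_e x := by
    rw [LinearMap.toSpanSingleton_apply, polarBilin_apply_apply, polar_smul_right, h.polar_left, smul_zero]
  pf_f x := by
    rw [LinearMap.toSpanSingleton_apply, polarBilin_apply_apply, polar_smul_right, h.pair, smul_eq_mul, mul_one]

theorem pair1_e {e f : V} (h : Hyp Q e f) (a : F) : (pair1 h).e a = a • e := rfl
theorem pair1_f {e f : V} (h : Hyp Q e f) (a : F) : (pair1 h).f a = a • f := rfl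
theorem pair1_pe {e f : V} (h : Hyp Q e f) (v : V) : (pair1 h).pe v = polar Q f v := rfl
theorem pair1_pf {e f : V} (h : Hyp Q e f) (v : V) : (pair1 h).pf v = polar Q e v := rfl

theorem pair1_perp {e f : V} (h : Hyp Q e f) {v : V} (h1 : polar Q e v = 0) (h2 : polar Q f v = 0) :
    (pair1 h).Perp v := ⟨h2, h1⟩

/-- The torus of a hyperbolic plane. -/
noncomputable def tor {e f : V} (h : Hyp Q e f) : Fˣ →* O Q :=
  (pair1 h).SHom.codRestrict (O Q) fun c => (pair1 h).S_mem_O c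

theorem tor_apply {e f : V} (h : Hyp Q e f) (c : Fˣ) (v : V) :
    (tor h c).1 v = v + (((c : F) - 1) * polar Q f v) • e + ((((c⁻¹ : Fˣ) : F) - 1) * polar Q e v) • f := rfl

theorem tor_left {e f : V} (h : Hyp Q e f) (c : Fˣ) : (tor h c).1 e = (c : F) • e := by
  rw [tor_apply, h.polar_left, h.pair']
  module

theorem tor_right {e f : V} (h : Hyp Q e f) (c : Fˣ) : (tor h c).1 f = ((c⁻¹ : Fˣ) : F) • f := by
  rw [tor_apply, h.polar_right, h.pair]
  module

theorem tor_perp {e f : V} (h : Hyp Q e f) (c : Fˣ) {v : V} (h1 : polar Q e v = 0) (h2 : polar Q f v = 0) :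
    (tor h c).1 v = v := by
  rw [tor_apply, h1, h2]
  simp

theorem Q_hyp {e f : V} (h : Hyp Q e f) (c : F) : Q (e + c • f) = c := by
  rw [Q_add, h.left, QuadraticMap.map_smul, h.right, polar_smul_right, h.pair]
  simp

theorem refl_mul_refl_eq {e f : V} (h : Hyp Q e f) (c : Fˣ) (h1 : Q (e + (c : F) • f) ≠ 0)
    (h2 : Q (e + (1 : F) • f) ≠ 0) :
    refl Q (e + (c : F) • f) h1 * refl Q (e + (1 : F) • f) h2 = (tor h c⁻¹).1 := by
  ext v
  show refl Q (e + (c : F) • f) h1 (refl Q (e + (1 : F) • f) h2 v) = (tor h c⁻¹).1 v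
  have hc : (c : F) ≠ 0 := c.ne_zero
  rw [tor_apply, refl_apply, refl_apply, Q_hyp h, Q_hyp h, inv_inv, Units.val_inv_eq_inv_val]
  simp only [polar_sub_right, polar_smul_right, polar_add_left, polar_add_right, polar_smul_left,
    h.polar_left, h.polar_right, h.pair, h.pair', smul_eq_mul, one_smul]
  match_scalars <;> field_simp <;> ring

/-- The class of the torus element. -/
theorem out_tor {e f : V} (h : Hyp Q e f) (c : Fˣ) (h1 : Q (e + (c : F) • f) ≠ 0)
    (h2 : Q (e + (1 : F) • f) ≠ 0) :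
    out Q (rf (e + (c : F) • f) h1) * out Q (rf (e + (1 : F) • f) h2) = out Q (ofO Q (tor h c⁻¹)) := by
  rw [← map_mul, rf, rf, ← map_mul]
  congr 2
  exact Subtype.ext (refl_mul_refl_eq h c h1 h2)

/-- The class does not depend on the plane. -/
theorem out_tor_eq (hG : Good Q) {e f e' f' : V} (h : Hyp Q e f) (h' : Hyp Q e' f') (c : Fˣ) :
    out Q (ofO Q (tor h c)) = out Q (ofO Q (tor h' c)) := by
  have a1 : Q (e + ((c⁻¹ : Fˣ) : F) • f) ≠ 0 := by rw [Q_hyp h]; exact Units.ne_zero _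
  have a2 : Q (e + (1 : F) • f) ≠ 0 := by rw [Q_hyp h]; exact one_ne_zero
  have b1 : Q (e' + ((c⁻¹ : Fˣ) : F) • f') ≠ 0 := by rw [Q_hyp h']; exact Units.ne_zero _
  have b2 : Q (e' + (1 : F) • f') ≠ 0 := by rw [Q_hyp h']; exact one_ne_zero
  have e1 := out_tor h c⁻¹ a1 a2
  have e2 := out_tor h' c⁻¹ b1 b2
  rw [inv_inv] at e1 e2
  rw [← e1, ← e2, out_rf_of_eq hG a1 b1 (by rw [Q_hyp h, Q_hyp h']),
    out_rf_of_eq hG a2 b2 (by rw [Q_hyp h, Q_hyp h'])]

/-- The classes of the torus elements. -/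
noncomputable def torOut {e f : V} (h : Hyp Q e f) : Subgroup (Cfsg.Out (P Q)) :=
  ((out Q).comp ((ofO Q).comp (tor h))).range

theorem mem_torOut {e f : V} (h : Hyp Q e f) {x : Cfsg.Out (P Q)} :
    x ∈ torOut h ↔ ∃ c, out Q (ofO Q (tor h c)) = x := Iff.rfl

/-- If one reflection of norm 1 has its class in `torOut`, all isometries have. -/
theorem out_ofO_mem_torOut [FiniteDimensional F V] (hG : Good Q) {e f : V} (h : Hyp Q e f) {v : V}
    (hv : Q v = 1) (hv0 : Q v ≠ 0) (hv1 : out Q (rf v hv0) ∈ torOut h) (g : O Q) :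
    out Q (ofO Q g) ∈ torOut h := by
  refine out_ofO_mem hG (fun w hw => ?_) g
  have a1 : Q (e + ((Units.mk0 (Q w) hw : Fˣ) : F) • f) ≠ 0 := by rw [Q_hyp h]; exact hw
  have a2 : Q (e + (1 : F) • f) ≠ 0 := by rw [Q_hyp h]; exact one_ne_zero
  have e1 := out_tor h (Units.mk0 (Q w) hw) a1 a2
  rw [out_rf_of_eq hG a1 hw (Q_hyp h _), out_rf_of_eq hG a2 hv0 (by rw [Q_hyp h, hv])] at e1
  have e2 : out Q (rf w hw) = out Q (ofO Q (tor h (Units.mk0 (Q w) hw)⁻¹)) * (out Q (rf v hv0))⁻¹ := by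
    rw [← e1, mul_inv_cancel_right]
  rw [e2]
  exact (torOut h).mul_mem ⟨_, rfl⟩ ((torOut h).inv_mem hv1)

end Cfsg.Agent.H48.DG
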