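import Cfsg.Agent.H48.DG.Six
import Cfsg.Agent.H48.DG.GamTools
import Cfsg.Agent.H989.OutOrth.Forms
import Cfsg.Agent.LieClassical.PomegaCard

/-!
# TEAM GEN, S4180: the row `POmega_{2m+1}(q)`, `q` odd, `m ≥ 3` (helper48, after helper989's proof)

`cos2_odd : Cfsg.IsPOmegaOdd T → Cos2 T`
-/

set_option autoImplicit false

namespace Cfsg.Agent.H48.DG.Odd

open QuadraticMap Cfsg.Agent.LieClassical.OrthCore Cfsg.Agent.LieClassical.OrthTrans
  Cfsg.Agent.LieClassical.OrthSimple Cfsg.Agent.ClassicalGeometry.OrthAutBasic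
  Cfsg.Agent.ClassicalGeometry.OrthSemi Cfsg.Agent.ClassicalGeometry.OrthAut1
  Cfsg.Agent.ClassicalGeometry.OrthSemiCount Cfsg.Agent.ClassicalGeometry.OrthSemiForms
  Cfsg.Agent.LieClassical.OrthForms
  Cfsg.Agent.H887.SiegelMethod Cfsg.Agent.H137 Cfsg.Agent.H989.OutOrth.Basic Cfsg.Agent.H989.DG
  Cfsg.Agent.H989.OutOrth.Forms Cfsg.Agent.H891.DG Cfsg.Agent.H891.Gen Cfsg.Agent.H48.DG

section Form

variable {F : Type*} [Field F] {m : ℕ}

/-- the basis vectors -/
def ev (F : Type*) [Field F] {m : ℕ} (i : Fin m) : Unit ⊕ (Fin m ⊕ Fin m) → F := Pi.single (Sum.inr (Sum.inl i)) 1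
/-- the basis vectors -/
def fv (F : Type*) [Field F] {m : ℕ} (i : Fin m) : Unit ⊕ (Fin m ⊕ Fin m) → F := Pi.single (Sum.inr (Sum.inr i)) 1
/-- the basis vectors -/
def dv (F : Type*) [Field F] (m : ℕ) : Unit ⊕ (Fin m ⊕ Fin m) → F := Pi.single (Sum.inl ()) 1

theorem polar_ev (i : Fin m) (v : Unit ⊕ (Fin m ⊕ Fin m) → F) :
    polar (oddForm m F) (ev F i) v = v (Sum.inr (Sum.inr i)) := by
  rw [polar_oddForm, Finset.sum_eq_single i]
  · simp [ev]
  · intro j _ hj
    simp [ev, hj]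
  · simp

theorem polar_fv (i : Fin m) (v : Unit ⊕ (Fin m ⊕ Fin m) → F) :
    polar (oddForm m F) (fv F i) v = v (Sum.inr (Sum.inl i)) := by
  rw [polar_oddForm, Finset.sum_eq_single i]
  · simp [fv]
  · intro j _ hj
    simp [fv, hj]
  · simp

theorem polar_dv (v : Unit ⊕ (Fin m ⊕ Fin m) → F) :
    polar (oddForm m F) (dv F m) v = 2 * v (Sum.inl ()) := by
  rw [polar_oddForm]
  simp [dv]

theorem q_ev (i : Fin m) : oddForm m F (ev F i) = 0 := by
  rw [coe_oddForm, quadFormOdd_apply]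
  simp [ev]

theorem q_fv (i : Fin m) : oddForm m F (fv F i) = 0 := by
  rw [coe_oddForm, quadFormOdd_apply]
  simp [fv]

theorem q_dv : oddForm m F (dv F m) = 1 := by
  rw [coe_oddForm, quadFormOdd_apply]
  simp [dv]

theorem ee (i j : Fin m) : polar (oddForm m F) (ev F i) (ev F j) = 0 := by
  rw [polar_ev]; simp [ev]

theorem ff (i j : Fin m) : polar (oddForm m F) (fv F i) (fv F j) = 0 := by
  rw [polar_fv]; simp [fv]

theorem ef (i j : Fin m) : polar (oddForm m F) (ev F i) (fv F j) = if i = j then 1 else 0 := by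
  rw [polar_ev]; simp [fv, Pi.single_apply]

theorem fe (i j : Fin m) : polar (oddForm m F) (fv F i) (ev F j) = if i = j then 1 else 0 := by
  rw [polar_fv]; simp [ev, Pi.single_apply]

theorem ed (i : Fin m) : polar (oddForm m F) (ev F i) (dv F m) = 0 := by
  rw [polar_ev]; simp [dv]

theorem fd (i : Fin m) : polar (oddForm m F) (fv F i) (dv F m) = 0 := by
  rw [polar_fv]; simp [dv]

theorem hyp (i : Fin m) : Hyp (oddForm m F) (ev F i) (fv F i) := ⟨q_ev i, q_fv i, by rw [ef, if_pos rfl]⟩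

theorem span_dv (v : Unit ⊕ (Fin m ⊕ Fin m) → F) (h1 : ∀ i, polar (oddForm m F) (ev F i) v = 0)
    (h3 : ∀ i, polar (oddForm m F) (fv F i) v = 0) : v ∈ Submodule.span F {dv F m} := by
  have e : v = (v (Sum.inl ())) • dv F m := by
    ext j
    rcases j with j | (j | j)
    · simp [dv]
    · have := h3 j
      rw [polar_fv] at this
      simp [this, dv]
    · have := h1 j
      rw [polar_ev] at this
      simp [this, dv]
  rw [e]
  exact Submodule.smul_mem _ _ (Submodule.subset_span (by simp))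

/-- The field automorphisms. -/
def Fr (m : ℕ) (σ : RingAut F) : Gam (oddForm m F) := ⟨cw _ F σ, _, _, isSS_cw_odd m σ⟩

theorem Fr_single (σ : RingAut F) (j : Unit ⊕ (Fin m ⊕ Fin m)) :
    (Fr m σ).1 (Pi.single j 1) = Pi.single j 1 := by
  funext i
  show σ ((Pi.single j (1 : F) : Unit ⊕ (Fin m ⊕ Fin m) → F) i) = _
  rw [Pi.single_apply]
  split_ifs with h
  · rw [map_one]
  · rw [map_zero]

/-! ### `-1` -/

/-- the sign change on the planes in `S` -/
theorem exists_flip (hG : Good (oddForm m F)) (i0 : Fin m) (S : Finset (Fin m)) :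
    ∃ n : O (oddForm m F), out _ (ofO _ n) ∈ torOut (hyp (F := F) i0) ∧
      ∀ v, (n.1 v) (Sum.inl ()) = v (Sum.inl ()) ∧
        (∀ i, (n.1 v) (Sum.inr (Sum.inl i)) = if i ∈ S then - v (Sum.inr (Sum.inl i)) else v (Sum.inr (Sum.inl i))) ∧
        (∀ i, (n.1 v) (Sum.inr (Sum.inr i)) = if i ∈ S then - v (Sum.inr (Sum.inr i)) else v (Sum.inr (Sum.inr i))) := by
  induction S using Finset.induction_on with
  | empty =>
    refine ⟨1, ?_, fun v => ⟨rfl, fun i => by simp, fun i => by simp⟩⟩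
    rw [map_one, map_one]
    exact Subgroup.one_mem _
  | insert a S ha ih =>
    obtain ⟨n, hn, hv⟩ := ih
    refine ⟨tor (hyp (F := F) a) (-1) * n, ?_, fun v => ?_⟩
    · rw [map_mul, map_mul]
      exact Subgroup.mul_mem _ (by rw [out_tor_eq hG (hyp a) (hyp i0)]; exact ⟨_, rfl⟩) hn
    · obtain ⟨h1, h2, h3⟩ := hv v
      have e : (tor (hyp (F := F) a) (-1) * n).1 v = n.1 v + (-2 * (n.1 v) (Sum.inr (Sum.inl a))) • ev F a +
          (-2 * (n.1 v) (Sum.inr (Sum.inr a))) • fv F a := by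
        show (tor (hyp (F := F) a) (-1)).1 (n.1 v) = _
        rw [tor_apply, polar_fv, polar_ev]
        congr 3
        · congr 1
          simp; ring
        · congr 1
          simp; ring
      rw [e]
      refine ⟨?_, fun i => ?_, fun i => ?_⟩
      · simp [ev, fv, h1]
      · by_cases hi : i = a
        · subst hi
          simp [ev, fv, h2, ha]
          ring
        · simp [ev, fv, h2, hi, ha, Finset.mem_insert]
      · by_cases hi : i = a
        · subst hi
          simp [ev, fv, h3, ha]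
          ring
        · simp [ev, fv, h3, hi, ha, Finset.mem_insert]

theorem out_rf_dv (hG : Good (oddForm m F)) (i0 : Fin m) (hd : oddForm m F (dv F m) ≠ 0) :
    out _ (rf (dv F m) hd) ∈ torOut (hyp (F := F) i0) := by
  obtain ⟨n, hn, hv⟩ := exists_flip hG i0 Finset.univ
  have h1 : rf (dv F m) hd * ofO _ n = scal (oddForm m F) (-1) := by
    apply Subtype.ext
    ext v : 1
    show refl (oddForm m F) (dv F m) hd (n.1 v) = ((-1 : Fˣ) : F) • v
    obtain ⟨h1, h2, h3⟩ := hv v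
    rw [refl_apply, polar_dv, q_dv, h1]
    funext j
    rcases j with j | (j | j)
    · simp [dv, h1]; ring
    · simp [dv, h2]
    · simp [dv, h3]
  have h2 := congrArg (out (oddForm m F)) h1
  rw [map_mul, out_scal hG] at h2
  rw [eq_inv_of_mul_eq_one_left h2]
  exact Subgroup.inv_mem _ hn

/-- **All similitudes have their classes in the torus.** -/
theorem out_mem_torOut [Finite F] (h2 : (2 : F) ≠ 0) (hG : Good (oddForm m F)) (i0 : Fin m)
    {M : Gam (oddForm m F)} (hM : sg hG M = 1) : out _ M ∈ torOut (hyp (F := F) i0) := by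
  obtain ⟨σ, c, hMc⟩ := M.2
  have hσ : σ = RingEquiv.refl F := by rw [← sg_eq hG hMc, hM]; rfl
  subst hσ
  have hc : IsSquare c := isSquare_of_odd h2 hG.nondeg (by
      rw [Module.finrank_fintype_fun_eq_card, Fintype.card_sum, Fintype.card_sum, Fintype.card_fin,
        Fintype.card_unit]
      exact ⟨m, by ring⟩) hMc
  obtain ⟨g, a, rfl⟩ := exists_ofO_mul_scal hMc hc
  rw [map_mul, out_scal hG, mul_one]
  have hd : oddForm m F (dv F m) ≠ 0 := by rw [q_dv]; exact one_ne_zero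
  exact out_ofO_mem_torOut hG (hyp i0) q_dv hd (out_rf_dv hG i0 hd) g

end Form

section Main

variable {F : Type*} [Field F] [Finite F] {k : ℕ}

/-- two planes of the standard basis -/
theorem hyp2 {m : ℕ} {i j : Fin m} (h : i ≠ j) :
    Hyp2 (oddForm m F) (ev F i) (fv F i) (ev F j) (fv F j) :=
  ⟨hyp i, hyp j, ee i j, by rw [ef, if_neg h], by rw [fe, if_neg h], ff i j⟩

/-- the Weyl element `e0 → e1 → e2 → -f0`, ... -/
theorem exists_weyl {m : ℕ} (hG : Good (oddForm m F)) {i j l : Fin m} (hij : i ≠ j) (hjl : j ≠ l) (hil : i ≠ l) :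
    ∃ w : O (oddForm m F), w.1 (ev F i) = (1 : F) • ev F j ∧ w.1 (ev F j) = (1 : F) • ev F l ∧
      w.1 (ev F l) = (-1 : F) • fv F i ∧ w.1 (fv F i) = (1 : F) • fv F j ∧ w.1 (fv F j) = (1 : F) • fv F l ∧
      w.1 (fv F l) = (-1 : F) • ev F i ∧ w.1 (dv F m) = (1 : F) • dv F m := by
  have hQ : oddForm m F (ev F i + (1 : F) • fv F i) ≠ 0 := by rw [Q_hyp (hyp i)]; exact one_ne_zero
  have H1 : Hyp2 (oddForm m F) (ev F i) (fv F i) (ev F j) (fv F j) := hyp2 hij
  have H2 : Hyp2 (oddForm m F) (ev F j) (fv F j) (ev F l) (fv F l) := hyp2 hjl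
  set r := refl (oddForm m F) (ev F i + (1 : F) • fv F i) hQ with hr
  have hr0 : ∀ v, polar (oddForm m F) (ev F i) v = 0 → polar (oddForm m F) (fv F i) v = 0 → r v = v := by
    intro v h1 h2
    rw [hr, refl_apply, polar_add_left, polar_smul_left, h1, h2]
    simp
  have hr1 : r (ev F i) = (-1 : F) • fv F i := by
    rw [hr, refl_apply, Q_hyp (hyp i), polar_add_left, polar_smul_left, (hyp i).polar_left, (hyp i).pair']
    simp
  have hr2 : r (fv F i) = (-1 : F) • ev F i := by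
    rw [hr, refl_apply, Q_hyp (hyp i), polar_add_left, polar_smul_left, (hyp i).polar_right, (hyp i).pair]
    simp
  let w : (Unit ⊕ (Fin m ⊕ Fin m) → F) ≃ₗ[F] (Unit ⊕ (Fin m ⊕ Fin m) → F) :=
    r * nn (oddForm m F) (ev F i) (fv F i) (ev F j) (fv F j) * nn (oddForm m F) (ev F j) (fv F j) (ev F l) (fv F l)
  have hw : w ∈ O (oddForm m F) := by
    refine (O _).mul_mem ((O _).mul_mem (refl_mem_O hQ) (E_le_O (nn_mem_E _ _ _ _))) (E_le_O (nn_mem_E _ _ _ _))
  have wapp : ∀ v, w v = r (nn (oddForm m F) (ev F i) (fv F i) (ev F j) (fv F j)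
      (nn (oddForm m F) (ev F j) (fv F j) (ev F l) (fv F l) v)) := fun v => rfl
  have fji : polar (oddForm m F) (fv F j) (ev F i) = 0 := by rw [fe, if_neg hij.symm]
  have eji : polar (oddForm m F) (ev F j) (fv F i) = 0 := by rw [ef, if_neg hij.symm]
  have fli : polar (oddForm m F) (fv F l) (ev F i) = 0 := by rw [fe, if_neg hil.symm]
  have eli : polar (oddForm m F) (ev F l) (fv F i) = 0 := by rw [ef, if_neg hil.symm]
  have fil : polar (oddForm m F) (fv F i) (ev F l) = 0 := by rw [fe, if_neg hil]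
  have eil : polar (oddForm m F) (ev F i) (fv F l) = 0 := by rw [ef, if_neg hil]
  have fij : polar (oddForm m F) (fv F i) (ev F j) = 0 := by rw [fe, if_neg hij]
  have eij : polar (oddForm m F) (ev F i) (fv F j) = 0 := by rw [ef, if_neg hij]
  have fjl : polar (oddForm m F) (fv F j) (ev F l) = 0 := by rw [fe, if_neg hjl]
  have ejl : polar (oddForm m F) (ev F j) (fv F l) = 0 := by rw [ef, if_neg hjl]
  refine ⟨⟨w, hw⟩, ?_, ?_, ?_, ?_, ?_, ?_, ?_⟩
  · show w _ = _
    rw [wapp, nn_fix H2 (ee _ _) fji (ee _ _) fli, nn_x H1, hr0 _ (ee _ _) fij, one_smul]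
  · show w _ = _
    rw [wapp, nn_x H2, nn_fix H1 (ee _ _) fil (ee _ _) fjl, hr0 _ (ee _ _) fil, one_smul]
  · show w _ = _
    rw [wapp, nn_y H2, map_neg, nn_y H1, neg_neg, hr1]
  · show w _ = _
    rw [wapp, nn_fix H2 eji (ff _ _) eli (ff _ _), nn_x' H1, hr0 _ eij (ff _ _), one_smul]
  · show w _ = _
    rw [wapp, nn_x' H2, nn_fix H1 eil (ff _ _) ejl (ff _ _), hr0 _ eil (ff _ _), one_smul]
  · show w _ = _
    rw [wapp, nn_y' H2, map_neg, nn_y' H1, neg_neg, hr2]
  · show w _ = _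
    rw [wapp, nn_fix H2 (ed _) (fd _) (ed _) (fd _), nn_fix H1 (ed _) (fd _) (ed _) (fd _),
      hr0 _ (ed _) (fd _), one_smul]

/-- **The generation statement in `Gam Q`.** -/
theorem exists_pair (hk : 1 ≤ k) (h2 : (2 : F) ≠ 0) (hG : Good (oddForm (k + 2) F))
    (M N : Gam (oddForm (k + 2) F)) (hM : sg hG M = 1) :
    ∃ X Y : Gam (oddForm (k + 2) F), out _ M = out _ X ∧ out _ N = out _ Y ∧
      E (oddForm (k + 2) F) ≤ HO (Subgroup.closure {X, Y}) := by
  obtain ⟨K, _, _, _, hK⟩ := exists_ext F k (by omega)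
  have : FiniteDimensional F K := Module.finite_of_finrank_pos (by omega)
  have : Algebra.IsSeparable F K := inferInstance
  let b : Module.Basis (Fin k) F K := (Module.finBasis F K).reindex (finCongr hK)
  -- the indices
  let i0 : Fin (k + 2) := 0
  let i1 : Fin (k + 2) := 1
  let j0 : Fin k := ⟨0, by omega⟩
  have hfam : HypFam (oddForm (k + 2) F) (fun i : Fin k => ev F i.succ.succ) (fun i : Fin k => fv F i.succ.succ) := by
    refine ⟨fun i => q_ev _, fun i => q_fv _, fun i j => ee _ _, fun i j => ff _ _, fun i j => ?_⟩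
    rw [ef]
    simp only [Fin.succ_inj]
  set P := mkPair b hfam with hP
  have hpe : ∀ v, P.Perp v ↔ (∀ i : Fin k, polar (oddForm (k + 2) F) (ev F i.succ.succ) v = 0) ∧
      ∀ i : Fin k, polar (oddForm (k + 2) F) (fv F i.succ.succ) v = 0 := fun v => perp_mkPair b hfam v
  have n0 : ∀ i : Fin k, i.succ.succ ≠ i0 := fun i => Fin.succ_ne_zero _
  have n1 : ∀ i : Fin k, i.succ.succ ≠ i1 := fun i h => by
    have := congrArg Fin.val h
    simp [i1] at this
  have n01 : i0 ≠ i1 := by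
    intro h
    have := congrArg Fin.val h
    simp [i0, i1] at this
  have he0 : P.Perp (ev F i0) := (hpe _).2 ⟨fun i => ee _ _, fun i => by rw [fe, if_neg (n0 i)]⟩
  have hf0 : P.Perp (fv F i0) := (hpe _).2 ⟨fun i => by rw [ef, if_neg (n0 i)], fun i => ff _ _⟩
  have he1 : P.Perp (ev F i1) := (hpe _).2 ⟨fun i => ee _ _, fun i => by rw [fe, if_neg (n1 i)]⟩
  have hf1 : P.Perp (fv F i1) := (hpe _).2 ⟨fun i => by rw [ef, if_neg (n1 i)], fun i => ff _ _⟩
  have hd : P.Perp (dv F (k + 2)) := (hpe _).2 ⟨fun i => ed _, fun i => fd _⟩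
  have eP : P.e (b j0) = ev F j0.succ.succ := b.constr_basis F _ j0
  have fP : P.f (b.traceDual j0) = fv F j0.succ.succ := b.traceDual.constr_basis F _ j0
  have htr : Algebra.trace F K (b j0 * b.traceDual j0) ≠ 0 := by
    rw [b.trace_mul_traceDual, if_pos rfl]
    exact one_ne_zero
  obtain ⟨g, hg⟩ := IsCyclic.exists_generator (α := Kˣ)
  -- the elements
  have H1 : Hyp (oddForm (k + 2) F) (ev F i1) (fv F i1) := hyp i1
  let S0 : O (oddForm (k + 2) F) := ⟨P.S g, P.S_mem_O g⟩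
  have hτ0 : T (oddForm (k + 2) F) (ev F i0) (dv F (k + 2)) ∈ O (oddForm (k + 2) F) := T_mem_O _ _
  let τ : O (oddForm (k + 2) F) := ⟨T (oddForm (k + 2) F) (ev F i0) (dv F (k + 2)), hτ0⟩
  obtain ⟨s, hs⟩ := (mem_torOut H1).1 (out_mem_torOut h2 hG i1 (M := (ofO (oddForm (k + 2) F) S0)⁻¹ * M)
    (by rw [map_mul, map_inv, sg_ofO, hM, inv_one, one_mul]))
  obtain ⟨w, w0, w1, w2, w3, w4, w5, w6⟩ := exists_weyl (F := F) hG n01 (n1 j0).symm (n0 j0).symm
  set σ := sg hG N with hσ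
  have hFr : sg hG (Fr (k + 2) σ) = σ := sg_eq hG (isSS_cw_odd (k + 2) σ)
  obtain ⟨t, ht⟩ := (mem_torOut H1).1 (out_mem_torOut h2 hG i1 (M := N * (ofO (oddForm (k + 2) F) w * Fr (k + 2) σ)⁻¹)
    (by rw [map_mul, map_inv, map_mul, sg_ofO, hFr, one_mul, ← hσ, mul_inv_cancel]))
  let A : O (oddForm (k + 2) F) := S0 * tor H1 s
  refine ⟨ofO (oddForm (k + 2) F) (A * τ), ofO (oddForm (k + 2) F) (tor H1 t * w) * Fr (k + 2) σ, ?_, ?_, ?_⟩
  · rw [map_mul, map_mul, map_mul, map_mul, hs, map_mul, map_inv, mul_inv_cancel_left,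
      out_ofO_of_mem (T_mem_E _ _), mul_one]
  · rw [map_mul, map_mul, map_mul, mul_assoc, ← map_mul, ht, map_mul, map_inv, inv_mul_cancel_right]
  set X := ofO (oddForm (k + 2) F) (A * τ) with hX
  set Y := ofO (oddForm (k + 2) F) (tor H1 t * w) * Fr (k + 2) σ with hY
  set M0 := Subgroup.closure {X, Y} with hM0
  have hXM : X ∈ M0 := Subgroup.subset_closure (by simp)
  have hYM : Y ∈ M0 := Subgroup.subset_closure (by simp)
  -- commutation
  have c1 : S0 * tor H1 s = tor H1 s * S0 := by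
    apply Subtype.ext
    ext1 v
    show P.S g ((tor H1 s).1 v) = (tor H1 s).1 (P.S g v)
    have h1 : ∀ u, P.Perp u → polar (oddForm (k + 2) F) u (P.S g v) = polar (oddForm (k + 2) F) u v := by
      intro u hu
      have h3 := polar_map (P.S_mem_O g) u v
      rwa [P.S_perp g hu] at h3
    rw [tor_apply, tor_apply, map_add, map_add, map_smul, map_smul, P.S_perp g he1, P.S_perp g hf1,
      h1 _ he1, h1 _ hf1]
  have cT : ∀ u : O (oddForm (k + 2) F), u.1 (ev F i0) = ev F i0 → u.1 (dv F (k + 2)) = dv F (k + 2) → Commute u τ := by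
    intro u hu1 hu2
    apply Subtype.ext
    show u.1 * T (oddForm (k + 2) F) (ev F i0) (dv F (k + 2)) = T (oddForm (k + 2) F) (ev F i0) (dv F (k + 2)) * u.1
    have h1 := T_conj u.2 (ev F i0) (dv F (k + 2))
    rwa [hu1, hu2, mul_inv_eq_iff_eq_mul] at h1
  have tor0 : ∀ c : Fˣ, (tor H1 c).1 (ev F i0) = ev F i0 := fun c =>
    tor_perp H1 c (ee _ _) (by rw [fe, if_neg n01.symm])
  have tor0' : ∀ c : Fˣ, (tor H1 c).1 (fv F i0) = fv F i0 := fun c =>
    tor_perp H1 c (by rw [ef, if_neg n01.symm]) (ff _ _)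
  have tord : ∀ c : Fˣ, (tor H1 c).1 (dv F (k + 2)) = dv F (k + 2) := fun c =>
    tor_perp H1 c (ed _) (fd _)
  have cA : Commute A τ :=
    (cT S0 (P.S_perp g he0) (P.S_perp g hd)).mul_left (cT (tor H1 s) (tor0 s) (tord s))
  have oA : A ^ Nat.card Kˣ = 1 := by
    have h1 : Commute S0 (tor H1 s) := c1
    have h3 : S0 ^ Nat.card Kˣ = 1 := by
      apply Subtype.ext
      show P.S g ^ Nat.card Kˣ = 1
      rw [← P.S_pow, pow_card_eq_one', P.S_one]
    have h4 : s ^ Nat.card Kˣ = 1 := by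
      have h5 : Function.Injective (Units.map (algebraMap F K : F →* K)) :=
        Units.map_injective (algebraMap F K).injective
      apply h5
      rw [map_pow, pow_card_eq_one', map_one]
    rw [h1.mul_pow, h3, ← map_pow, h4, map_one, mul_one]
  have oτ : τ ^ ringChar F = 1 := by
    apply Subtype.ext
    show T (oddForm (k + 2) F) (ev F i0) (dv F (k + 2)) ^ ringChar F = 1
    rw [T_pow (q_ev i0) (ed i0), ← Nat.cast_smul_eq_nsmul F, CharP.cast_eq_zero, zero_smul, T_zero_right]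
  obtain ⟨hAM, hτM⟩ := mem_of_mul_coprime (H := M0.comap (ofO (oddForm (k + 2) F))) cA (coprime_card_units F K) oA oτ
    (by rw [Subgroup.mem_comap]; exact hXM)
  rw [Subgroup.mem_comap] at hAM hτM
  -- the closure
  have hτH : T (oddForm (k + 2) F) (ev F i0) (dv F (k + 2)) ∈ HO M0 := mem_HO.2 ⟨hτ0, hτM⟩
  have hdd : polar (oddForm (k + 2) F) (dv F (k + 2)) (dv F (k + 2)) ≠ 0 := by
    rw [polar_dv]
    simpa [dv] using h2
  have tor1 : ∀ c : Fˣ, (tor H1 c).1 (ev F i1) = (c : F) • ev F i1 := fun c => tor_left H1 c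
  have tor1' : ∀ c : Fˣ, (tor H1 c).1 (fv F i1) = ((c⁻¹ : Fˣ) : F) • fv F i1 := fun c => tor_right H1 c
  have torP : ∀ c : Fˣ, ∀ z, (tor H1 c).1 (P.e z) = P.e z := fun c z =>
    tor_perp H1 c (P.polar_e' he1 z) (P.polar_e' hf1 z)
  have torP' : ∀ c : Fˣ, ∀ z, (tor H1 c).1 (P.f z) = P.f z := fun c z =>
    tor_perp H1 c (P.polar_f' he1 z) (P.polar_f' hf1 z)
  refine E_le_six hG P (e0 := ev F i0) (f0 := fv F i0) (η := ev F i1) (η' := fv F i1) (d := dv F (k + 2))
    (hyp i0) H1 he0 hf0 he1 hf1 hd (ee _ _) (by rw [ef, if_neg n01]) (by rw [fe, if_neg n01]) (ff _ _)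
    (ed _) (fd _) (ed _) (fd _) hdd ?_ htr hg (X := ofO (oddForm (k + 2) F) A) (nm_HO hAM) (isSS_ofO A) ?_ ?_ ?_ ?_
    (Y := Y) (nm_HO hYM) (a0 := t) (a1 := 1) (a2 := -1) (a3 := ((t⁻¹ : Fˣ) : F)) (a4 := 1) (a5 := -1) (a6 := 1)
    (Units.ne_zero _) one_ne_zero (neg_ne_zero.2 one_ne_zero) (Units.ne_zero _) one_ne_zero
    (neg_ne_zero.2 one_ne_zero) one_ne_zero ?_ ?_ ?_ ?_ ?_ ?_ ?_ (Sg.of_mem (q_ev _) (ed _) hτH)
  · intro v hv h3 h4 h5 h6
    refine span_dv v (fun i => ?_) (fun i => ?_)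
    · refine Fin.cases h3 (fun i => ?_) i
      obtain ⟨k', rfl⟩ : ∃ k', k = k' + 1 := ⟨k - 1, by omega⟩
      refine Fin.cases h5 (fun i => ((hpe v).1 hv).1 i) i
    · refine Fin.cases h4 (fun i => ?_) i
      obtain ⟨k', rfl⟩ : ∃ k', k = k' + 1 := ⟨k - 1, by omega⟩
      refine Fin.cases h6 (fun i => ((hpe v).1 hv).2 i) i
  · intro z
    show P.S g ((tor H1 s).1 (P.e z)) = _
    rw [torP, P.S_e]
  · intro z
    show P.S g ((tor H1 s).1 (P.f z)) = _
    rw [torP', P.S_f]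
  · show P.S g ((tor H1 s).1 (ev F i0)) = _
    rw [tor0, P.S_perp g he0]
  · show P.S g ((tor H1 s).1 (fv F i0)) = _
    rw [tor0', P.S_perp g hf0]
  · show (tor H1 t).1 (w.1 ((Fr (k + 2) σ).1 (Pi.single _ 1))) = _
    rw [Fr_single]
    show (tor H1 t).1 (w.1 (ev F i0)) = _
    rw [w0, one_smul, tor1]
  · show (tor H1 t).1 (w.1 ((Fr (k + 2) σ).1 (Pi.single _ 1))) = _
    rw [Fr_single]
    show (tor H1 t).1 (w.1 (ev F i1)) = _
    rw [w1, one_smul, one_smul, ← eP, torP]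
  · rw [eP]
    show (tor H1 t).1 (w.1 ((Fr (k + 2) σ).1 (Pi.single _ 1))) = _
    rw [Fr_single]
    show (tor H1 t).1 (w.1 (ev F j0.succ.succ)) = _
    rw [w2, map_smul, tor0']
  · show (tor H1 t).1 (w.1 ((Fr (k + 2) σ).1 (Pi.single _ 1))) = _
    rw [Fr_single]
    show (tor H1 t).1 (w.1 (fv F i0)) = _
    rw [w3, one_smul, tor1']
  · show (tor H1 t).1 (w.1 ((Fr (k + 2) σ).1 (Pi.single _ 1))) = _
    rw [Fr_single]
    show (tor H1 t).1 (w.1 (fv F i1)) = _
    rw [w4, one_smul, one_smul, ← fP, torP']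
  · rw [fP]
    show (tor H1 t).1 (w.1 ((Fr (k + 2) σ).1 (Pi.single _ 1))) = _
    rw [Fr_single]
    show (tor H1 t).1 (w.1 (fv F j0.succ.succ)) = _
    rw [w5, map_smul, tor0]
  · show (tor H1 t).1 (w.1 ((Fr (k + 2) σ).1 (Pi.single _ 1))) = _
    rw [Fr_single]
    show (tor H1 t).1 (w.1 (dv F (k + 2))) = _
    rw [w6, one_smul, tord]

end Main

/-- **The row `POmega_{2m+1}(q)`.** -/
theorem cos2_odd {T : Type*} [Group T] (hT : Cfsg.IsPOmegaOdd T) : Cos2 T := by
  obtain ⟨F, _, _, m, hm, hF, ⟨e⟩⟩ := hT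
  have h2 : (2 : F) ≠ 0 := Cfsg.Agent.LieClassical.PomegaCard.odd_card_iff.1 hF
  obtain ⟨k, rfl⟩ : ∃ k, m = k + 2 := ⟨m - 2, by omega⟩
  have hG := good_odd (F := F) (m := k + 2) (by omega) h2
  have hs := Cfsg.Agent.AutOrth.Final.surjective_odd (F := F) hm h2
  have h := cos2_of_gam hG hs fun M N hM => exists_pair (by omega) h2 hG M N hM
  have he : Nonempty (T ≃* Cfsg.POmega F ⇑(oddForm (k + 2) F)) := by
    rw [coe_oddForm]
    exact ⟨e⟩
  obtain ⟨e'⟩ := he
  exact cos2_congr (e'.trans (pomegaEquiv hG)) h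

end Cfsg.Agent.H48.DG.Odd
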