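import Cfsg.Agent.H137.Fam
import Cfsg.Agent.H989.DG.Semi

/-!
# TEAM GEN, S4180: the closure argument for the odd orthogonal groups (helper48, after helper989's proof)

`H` is normalised by a semisimilitude `X` acting on `e K`, `f K` by multiplication with a generator and fixing
`e0`, `f0`, and by `Y` permuting the lines `e0 → η → e1 → f0 → η' → f1 → e0`; it contains a Siegel element
`T e0 d`. Then `E Q ≤ H`.
-/

set_option autoImplicit false

namespace Cfsg.Agent.H48.DG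

open QuadraticMap Cfsg.Agent.LieClassical.OrthCore Cfsg.Agent.LieClassical.OrthTrans
  Cfsg.Agent.LieClassical.OrthSimple Cfsg.Agent.ClassicalGeometry.OrthAutBasic
  Cfsg.Agent.ClassicalGeometry.OrthSemi Cfsg.Agent.ClassicalGeometry.OrthAut1
  Cfsg.Agent.H887.SiegelMethod Cfsg.Agent.H137 Cfsg.Agent.H989.OutOrth.Basic Cfsg.Agent.H989.DG

/-- a generator of the multiplicative group generates the field -/
theorem irr_of_gen {K : Type*} [Field K] [Finite K] {g : Kˣ} (hg : ∀ c : Kˣ, c ∈ Subgroup.zpowers g) :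
    Irr (g : K) := by
  intro Y hY y hy hy0 z
  by_cases hz : z = 0
  · rw [hz]; exact Y.zero_mem
  have h1 : Units.mk0 (z / y) (div_ne_zero hz hy0) ∈ Submonoid.powers g :=
    mem_powers_iff_mem_zpowers.2 (hg _)
  obtain ⟨n, hn⟩ := h1
  have h2 : (g : K) ^ n = z / y := by
    have := congrArg Units.val hn
    simpa using this
  have h3 : ∀ n : ℕ, (g : K) ^ n * y ∈ Y := by
    intro n
    induction n with
    | zero => simpa using hy
    | succ n ih =>
      rw [pow_succ', mul_assoc]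
      exact hY _ ih
  have h4 := h3 n
  rwa [h2, div_mul_cancel₀ _ hy0] at h4

theorem irr_of_gen_inv {K : Type*} [Field K] [Finite K] {g : Kˣ} (hg : ∀ c : Kˣ, c ∈ Subgroup.zpowers g) :
    Irr ((g⁻¹ : Kˣ) : K) :=
  irr_of_gen fun c => by rw [Subgroup.zpowers_inv]; exact hg c

variable {F V : Type*} [Field F] [AddCommGroup V] [Module F V] {Q : QuadraticForm F V}
  {H : Subgroup (V ≃ₗ[F] V)}

/-- **The closure.** -/
theorem E_le_six (hG : Good Q) {K : Type*} [Field K] [Finite K] [Algebra F K] (P : SPair Q K)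
    {e0 f0 η η' d : V} (h0 : Hyp Q e0 f0) (h1 : Hyp Q η η')
    (he0 : P.Perp e0) (hf0 : P.Perp f0) (hη : P.Perp η) (hη' : P.Perp η') (hd : P.Perp d)
    (e0η : polar Q e0 η = 0) (e0η' : polar Q e0 η' = 0) (f0η : polar Q f0 η = 0) (f0η' : polar Q f0 η' = 0)
    (hde : polar Q e0 d = 0) (hdf : polar Q f0 d = 0) (hdη : polar Q η d = 0) (hdη' : polar Q η' d = 0)
    (hdd : polar Q d d ≠ 0)
    (hspan : ∀ v, P.Perp v → polar Q e0 v = 0 → polar Q f0 v = 0 → polar Q η v = 0 → polar Q η' v = 0 →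
      v ∈ Submodule.span F {d})
    {x1 y1 : K} (hxy : Algebra.trace F K (x1 * y1) ≠ 0)
    {g : Kˣ} (hg : ∀ c : Kˣ, c ∈ Subgroup.zpowers g)
    {X : Gam Q} (hX : Nm H X) (hXs : IsSS Q (RingEquiv.refl F) 1 X.1)
    (hXe : ∀ z, X.1 (P.e z) = P.e (g * z)) (hXf : ∀ z, X.1 (P.f z) = P.f ((g⁻¹ : Kˣ) * z))
    (hXe0 : X.1 e0 = e0) (hXf0 : X.1 f0 = f0)
    {Y : Gam Q} (hY : Nm H Y) {a0 a1 a2 a3 a4 a5 a6 : F} (ha0 : a0 ≠ 0) (ha1 : a1 ≠ 0) (ha2 : a2 ≠ 0)
    (ha3 : a3 ≠ 0) (ha4 : a4 ≠ 0) (ha5 : a5 ≠ 0) (ha6 : a6 ≠ 0)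
    (hY0 : Y.1 e0 = a0 • η) (hY1 : Y.1 η = a1 • P.e x1) (hY2 : Y.1 (P.e x1) = a2 • f0)
    (hY3 : Y.1 f0 = a3 • η') (hY4 : Y.1 η' = a4 • P.f y1) (hY5 : Y.1 (P.f y1) = a5 • e0)
    (hY6 : Y.1 d = a6 • d) (hT : Sg Q H e0 d) : E Q ≤ H := by
  set e1 := P.e x1 with he1
  set f1 := P.f y1 with hf1
  have x10 : x1 ≠ 0 := by
    intro h
    rw [h, zero_mul, map_zero] at hxy
    exact hxy rfl
  have y10 : y1 ≠ 0 := by
    intro h
    rw [h, mul_zero, map_zero] at hxy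
    exact hxy rfl
  have q1 : Q e1 = 0 := P.Qe _
  have q2 : Q f1 = 0 := P.Qf _
  have q3 : Q e0 = 0 := h0.left
  have q4 : Q f0 = 0 := h0.right
  have q5 : Q η = 0 := h1.left
  have q6 : Q η' = 0 := h1.right
  -- Siegel elements at `d`
  have s0 : Sg Q H e0 d := hT
  have s1 : Sg Q H η d := s0.shift hY ha0 ha6 hY0 hY6
  have s2 : Sg Q H e1 d := s1.shift hY ha1 ha6 hY1 hY6
  have s3 : Sg Q H f0 d := s2.shift hY ha2 ha6 hY2 hY6
  have s4 : Sg Q H η' d := s3.shift hY ha3 ha6 hY3 hY6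
  have s5 : Sg Q H f1 d := s4.shift hY ha4 ha6 hY4 hY6
  -- root elements
  have p1 : polar Q e1 e0 = 0 := P.polar_e he0 _
  have p2 : polar Q f1 e0 = 0 := P.polar_f he0 _
  have p3 : polar Q e1 f0 = 0 := P.polar_e hf0 _
  have p4 : polar Q f1 f0 = 0 := P.polar_f hf0 _
  have p5 : polar Q e1 d = 0 := P.polar_e hd _
  have p6 : polar Q f1 d = 0 := P.polar_f hd _
  have r1 : Sg Q H e0 e1 := comm_sg p1 hde p5 s2 s0 hdd
  have r2 : Sg Q H e0 f1 := comm_sg p2 hde p6 s5 s0 hdd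
  have r3 : Sg Q H f0 e1 := comm_sg p3 hdf p5 s2 s3 hdd
  have r4 : Sg Q H f0 f1 := comm_sg p4 hdf p6 s5 s3 hdd
  -- the families
  have hi : Irr (algebraMap F K (1 * (1 : F)⁻¹) * (g : K)) := by
    rw [inv_one, mul_one, map_one, one_mul]
    exact irr_of_gen hg
  have hi' : Irr (algebraMap F K (1 * (1 : F)⁻¹) * ((g⁻¹ : Kˣ) : K)) := by
    rw [inv_one, mul_one, map_one, one_mul]
    exact irr_of_gen_inv hg
  have hXe0' : X.1 e0 = (1 : F) • e0 := by rw [one_smul, hXe0]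
  have hXf0' : X.1 f0 = (1 : F) • f0 := by rw [one_smul, hXf0]
  have t1 : ∀ z, P.e z ∈ Ts Q H e0 := famE_of hX hXs hXe q3 he0 hXe0' hi _ x10 r1
  have t2 : ∀ z, P.f z ∈ Ts Q H e0 := famF_of hX hXs hXf q3 he0 hXe0' hi' _ y10 r2
  have t3 : ∀ z, P.e z ∈ Ts Q H f0 := famE_of hX hXs hXe q4 hf0 hXf0' hi _ x10 r3
  have t4 : ∀ z, P.f z ∈ Ts Q H f0 := famF_of hX hXs hXf q4 hf0 hXf0' hi' _ y10 r4
  -- `η`, `η'`
  have u1 : η ∈ Ts Q H f0 := (mem_Ts_comm q5 q4).1 (Ts_shift hY q3 q5 (t1 x1) ha0 ha2 hY0 hY2)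
  have u2 : η ∈ Ts Q H e0 := (mem_Ts_comm q5 q3).1 (Ts_shift hY q3 q5 (t2 y1) ha0 ha5 hY0 hY5)
  have u3 : η' ∈ Ts Q H f0 := (mem_Ts_comm q6 q4).1 (Ts_shift hY q4 q6 (t3 x1) ha3 ha2 hY3 hY2)
  have u4 : η' ∈ Ts Q H e0 := (mem_Ts_comm q6 q3).1 (Ts_shift hY q4 q6 (t4 y1) ha3 ha5 hY3 hY5)
  -- `d`
  obtain ⟨s, hs, hTd⟩ := s2.mem
  have pxy : polar Q e1 f1 ≠ 0 := by rw [he1, hf1, P.polar_e_f]; exact hxy
  have hsd : ∀ {u : V}, polar Q u d = 0 → polar Q u (s • d) = 0 := fun h => by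
    rw [polar_smul_right, h, smul_zero]
  have v1 : d ∈ Ts Q H e0 := by
    have h := full_of_single (y := e1) (y' := f1) q3 q1 (hsd hde) (hsd p5) (hsd p6) pxy (t1 x1) (t2 y1) hTd
    have h2 := (Ts Q H e0).smul_mem s⁻¹ h
    rwa [smul_smul, inv_mul_cancel₀ hs, one_smul] at h2
  have v2 : d ∈ Ts Q H f0 := by
    have h := full_of_single (y := e1) (y' := f1) q4 q1 (hsd hdf) (hsd p5) (hsd p6) pxy (t3 x1) (t4 y1) hTd
    have h2 := (Ts Q H f0).smul_mem s⁻¹ h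
    rwa [smul_smul, inv_mul_cancel₀ hs, one_smul] at h2
  -- conclusion
  have ηe0 : polar Q η e0 = 0 := by rw [polar_comm]; exact e0η
  have η'e0 : polar Q η' e0 = 0 := by rw [polar_comm]; exact e0η'
  have ηf0 : polar Q η f0 = 0 := by rw [polar_comm]; exact f0η
  have η'f0 : polar Q η' f0 = 0 := by rw [polar_comm]; exact f0η'
  have dec : ∀ v, ∃ w ∈ Submodule.span F {d}, v = w + polar Q f0 v • e0 + polar Q e0 v • f0 +
      polar Q η' v • η + polar Q η v • η' + P.e (P.pe v) + P.f (P.pf v) := by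
    intro v
    refine ⟨v - P.e (P.pe v) - P.f (P.pf v) - (polar Q f0 v • e0 + polar Q e0 v • f0 +
      polar Q η' v • η + polar Q η v • η'), ?_, by abel⟩
    have hv1 : P.Perp (v - P.e (P.pe v) - P.f (P.pf v)) := P.perp_sub v
    apply hspan
    · refine ⟨?_, ?_⟩
      · rw [map_sub, hv1.1, map_add, map_add, map_add, map_smul, map_smul, map_smul, map_smul, he0.1, hf0.1,
          hη.1, hη'.1]
        simp
      · rw [map_sub, hv1.2, map_add, map_add, map_add, map_smul, map_smul, map_smul, map_smul, he0.2, hf0.2,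
          hη.2, hη'.2]
        simp
    · simp only [polar_sub_right, polar_add_right, polar_smul_right, P.polar_e' he0, P.polar_f' he0,
        h0.polar_left, h0.pair, e0η, e0η', smul_eq_mul]
      ring
    · simp only [polar_sub_right, polar_add_right, polar_smul_right, P.polar_e' hf0, P.polar_f' hf0,
        h0.polar_right, h0.pair', f0η, f0η', smul_eq_mul]
      ring
    · simp only [polar_sub_right, polar_add_right, polar_smul_right, P.polar_e' hη, P.polar_f' hη,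
        h1.polar_left, h1.pair, ηe0, ηf0, smul_eq_mul]
      ring
    · simp only [polar_sub_right, polar_add_right, polar_smul_right, P.polar_e' hη', P.polar_f' hη',
        h1.polar_right, h1.pair', η'e0, η'f0, smul_eq_mul]
      ring
  refine E_le_of_Ts hG q3 q4 (by rw [h0.pair]; exact one_ne_zero) ?_ ?_
  · intro v hv
    obtain ⟨w, hw, hv'⟩ := dec v
    rw [hv, zero_smul, add_zero] at hv'
    rw [hv']
    have hw' : w ∈ Ts Q H e0 := by
      refine (Submodule.span_le.2 ?_) hw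
      rintro x (rfl : x = d)
      exact v1
    exact (Ts Q H e0).add_mem ((Ts Q H e0).add_mem ((Ts Q H e0).add_mem ((Ts Q H e0).add_mem
      ((Ts Q H e0).add_mem hw' ((Ts Q H e0).smul_mem _ (self_mem_Ts q3))) ((Ts Q H e0).smul_mem _ u2))
      ((Ts Q H e0).smul_mem _ u4)) (t1 _)) (t2 _)
  · intro v hv
    obtain ⟨w, hw, hv'⟩ := dec v
    rw [hv, zero_smul, add_zero] at hv'
    rw [hv']
    have hw' : w ∈ Ts Q H f0 := by
      refine (Submodule.span_le.2 ?_) hw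
      rintro x (rfl : x = d)
      exact v2
    exact (Ts Q H f0).add_mem ((Ts Q H f0).add_mem ((Ts Q H f0).add_mem ((Ts Q H f0).add_mem
      ((Ts Q H f0).add_mem hw' ((Ts Q H f0).smul_mem _ (self_mem_Ts q4))) ((Ts Q H f0).smul_mem _ u1))
      ((Ts Q H f0).smul_mem _ u3)) (t3 _)) (t4 _)

end Cfsg.Agent.H48.DG
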